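import Groth.Agent.KFlatLib.Perfect.Spread
import Groth.Agent.KFlatLib.Perfect.BettiLin
import Mathlib.RingTheory.TensorProduct.Free

/-!
# Bases of stalks of free modules
-/

set_option linter.style.haveILetI false

universe u

open CategoryTheory CategoryTheory.Limits AlgebraicGeometry Opposite Module

namespace Groth.Agent.KFlatLib

variable {X : Scheme.{u}}

/-- The projections of a free module. -/
noncomputable def projFree (X : Scheme.{u}) {n : ℕ} (l : Fin n) :
    FlatMod.freeMod X n ⟶ Coh.structureModule X :=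
  Sigma.desc fun k => if k = l then 𝟙 _ else 0

lemma ι_projF {n : ℕ} (k l : Fin n) :
    Sigma.ι (fun _ : Fin n => Coh.structureModule X) k ≫ projFree X l = if k = l then 𝟙 _ else 0 :=
  Sigma.ι_desc _ _

lemma sum_projF (X : Scheme.{u}) (n : ℕ) :
    ∑ l, projFree X l ≫ Sigma.ι (fun _ : Fin n => Coh.structureModule X) l = 𝟙 _ := by
  refine Sigma.hom_ext _ _ fun k => ?_
  rw [Preadditive.comp_sum, Category.comp_id, Finset.sum_eq_single k]
  · rw [← Category.assoc, ι_projF, if_pos rfl]
    exact Category.id_comp _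
  · intro l _ hl
    rw [← Category.assoc, ι_projF, if_neg (Ne.symm hl), zero_comp]
  · simp

/-- The generator of the stalk of the structure sheaf. -/
noncomputable abbrev gen1 (x : X) : (DerSch.stalkFunctor X x).obj (Coh.structureModule X) :=
  germP (DCoh.toP.obj (Coh.structureModule X)) ⊤ trivial (oneSec ⊤)

lemma eGerm_eq (x : X) {n : ℕ} (k : Fin n) : eGerm x k =
    (DerSch.stalkFunctor X x).map (Sigma.ι (fun _ : Fin n => Coh.structureModule X) k) (gen1 x) :=
  rfl

lemma smul_gen1_injective (x : X) :
    Function.Injective fun r : X.presheaf.stalk x => r • gen1 x :=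
  (stalkUnitEquiv x).injective

lemma stalk_projF_eGerm (x : X) {n : ℕ} (k l : Fin n) :
    (DerSch.stalkFunctor X x).map (projFree X l) (eGerm x k) = if k = l then gen1 x else 0 := by
  rw [eGerm_eq, ← CategoryTheory.comp_apply, ← Functor.map_comp, ι_projF]
  split_ifs with h
  · rw [CategoryTheory.Functor.map_id]; rfl
  · rw [Functor.map_zero]; rfl

lemma exists_smul_gen1 (x : X) (m : (DerSch.stalkFunctor X x).obj (Coh.structureModule X)) :
    ∃ r : X.presheaf.stalk x, r • gen1 x = m :=
  (stalkUnitEquiv x).surjective m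

lemma stalk_eq_sum (x : X) {n : ℕ} (m : (DerSch.stalkFunctor X x).obj (FlatMod.freeMod X n)) :
    m = ∑ l, (DerSch.stalkFunctor X x).map (Sigma.ι (fun _ : Fin n => Coh.structureModule X) l)
      ((DerSch.stalkFunctor X x).map (projFree X l) m) := by
  have h0 : m = (DerSch.stalkFunctor X x).map (𝟙 _) m := by
    rw [CategoryTheory.Functor.map_id]; rfl
  rw [← sum_projF X n, Functor.map_sum] at h0
  refine h0.trans ?_
  let ev : ((DerSch.stalkFunctor X x).obj (FlatMod.freeMod X n) ⟶
      (DerSch.stalkFunctor X x).obj (FlatMod.freeMod X n)) →+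
      (DerSch.stalkFunctor X x).obj (FlatMod.freeMod X n) :=
    { toFun := fun φ => φ m
      map_zero' := rfl
      map_add' := fun _ _ => rfl }
  refine (map_sum ev _ _).trans (Finset.sum_congr rfl fun l _ => ?_)
  change (DerSch.stalkFunctor X x).map _ m = _
  rw [Functor.map_comp]
  rfl

/-- The standard basis of the stalk of a free module. -/
noncomputable def eBasis (x : X) (n : ℕ) :
    Basis (Fin n) (X.presheaf.stalk x) ((DerSch.stalkFunctor X x).obj (FlatMod.freeMod X n)) :=
  Basis.mk (v := fun k => eGerm x k) (by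
    rw [Fintype.linearIndependent_iff]
    intro g hg l
    have h : (DerSch.stalkFunctor X x).map (projFree X l) (∑ k, g k • eGerm x k) = 0 := by
      rw [hg]; exact map_zero _
    rw [map_sum, Finset.sum_eq_single l, map_smul, stalk_projF_eGerm, if_pos rfl] at h
    · exact smul_gen1_injective x (h.trans (zero_smul _ _).symm)
    · intro k _ hk
      rw [map_smul, stalk_projF_eGerm, if_neg hk, smul_zero]
    · simp) (fun m _ => by
    rw [stalk_eq_sum x m]
    refine Submodule.sum_mem _ fun l _ => ?_
    obtain ⟨r, hr⟩ := exists_smul_gen1 x ((DerSch.stalkFunctor X x).map (projFree X l) m)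
    rw [← hr, map_smul]
    exact Submodule.smul_mem _ r (Submodule.subset_span ⟨l, rfl⟩))

lemma eBasis_apply (x : X) {n : ℕ} (k : Fin n) : eBasis x n k = eGerm x k :=
  Basis.mk_apply _ _ k

/-- The matrix of sections of a map of free modules. -/
noncomputable def secMat {n m : ℕ} (d : FlatMod.freeMod X n ⟶ FlatMod.freeMod X m) :
    Matrix (Fin m) (Fin n) Γ(X, ⊤) := fun l k =>
  (DCoh.toP.map (Sigma.ι (fun _ : Fin n => Coh.structureModule X) k ≫ d ≫ projFree X l)).app (op ⊤)
    (oneSec ⊤)

lemma stalk_map_gen1 (x : X) (h : Coh.structureModule X ⟶ Coh.structureModule X) :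
    (DerSch.stalkFunctor X x).map h (gen1 x) =
      X.presheaf.germ ⊤ x trivial ((DCoh.toP.map h).app (op ⊤) (oneSec ⊤)) • gen1 x := by
  refine (DerSch.stalkFunctor_map_germ x h ⊤ trivial _).trans ?_
  refine Eq.trans ?_ (germP_smul (P := DCoh.toP.obj (Coh.structureModule X)) ⊤ trivial
    ((DCoh.toP.map h).app (op ⊤) (oneSec ⊤)) (oneSec ⊤))
  exact congrArg _ (sm_oneSec _).symm

lemma stalk_map_eGerm (x : X) {n m : ℕ} (d : FlatMod.freeMod X n ⟶ FlatMod.freeMod X m)
    (k : Fin n) :
    (DerSch.stalkFunctor X x).map d (eGerm x k) =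
      ∑ l, X.presheaf.germ ⊤ x trivial (secMat d l k) • eGerm x l := by
  conv_lhs => rw [stalk_eq_sum x ((DerSch.stalkFunctor X x).map d (eGerm x k))]
  refine Finset.sum_congr rfl fun l _ => ?_
  rw [eGerm_eq x l, ← map_smul]
  refine congrArg _ ?_
  rw [eGerm_eq x k, secMat, ← CategoryTheory.comp_apply, ← CategoryTheory.comp_apply,
    ← Functor.map_comp, ← Functor.map_comp]
  exact stalk_map_gen1 x _

lemma toMatrix_stalk (x : X) {n m : ℕ} (d : FlatMod.freeMod X n ⟶ FlatMod.freeMod X m) :
    LinearMap.toMatrix (eBasis x n) (eBasis x m) ((DerSch.stalkFunctor X x).map d).hom =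
      (secMat d).map (X.presheaf.germ ⊤ x trivial).hom := by
  ext l k
  rw [LinearMap.toMatrix_apply, eBasis_apply]
  erw [stalk_map_eGerm x d k]
  simp only [map_sum, map_smul, ← eBasis_apply, Basis.repr_self, Finsupp.coe_finsetSum,
    Finset.sum_apply, Finsupp.coe_smul, Pi.smul_apply, Finsupp.single_apply, smul_eq_mul,
    mul_ite, mul_one, mul_zero, Finset.sum_ite_eq', Finset.mem_univ, if_true, Matrix.map_apply]

/-- The rank of a map of free modules after base change to a field. -/
lemma finrank_range_extend (x : X) {n m : ℕ} (d : FlatMod.freeMod X n ⟶ FlatMod.freeMod X m)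
    {K : Type u} [Field K] (φ : X.presheaf.stalk x →+* K) :
    finrank K (LinearMap.range ((ModuleCat.extendScalars φ).map
        ((DerSch.stalkFunctor X x).map d)).hom) =
      ((secMat d).map (φ.comp (X.presheaf.germ ⊤ x trivial).hom)).rank := by
  letI := φ.toAlgebra
  let f := ((DerSch.stalkFunctor X x).map d).hom
  have h : ((secMat d).map (φ.comp (X.presheaf.germ ⊤ x trivial).hom)) =
      LinearMap.toMatrix (Algebra.TensorProduct.basis K (eBasis x n))
        (Algebra.TensorProduct.basis K (eBasis x m)) (f.baseChange K) := by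
    rw [LinearMap.toMatrix_baseChange, toMatrix_stalk, Matrix.map_map]
    rfl
  rw [h, Matrix.rank_eq_finrank_range_toLin _ (Algebra.TensorProduct.basis K (eBasis x m))
    (Algebra.TensorProduct.basis K (eBasis x n)), Matrix.toLin_toMatrix]
  rfl

lemma finrank_extend (x : X) (n : ℕ) {K : Type u} [Field K] (φ : X.presheaf.stalk x →+* K) :
    finrank K ((ModuleCat.extendScalars φ).obj
      ((DerSch.stalkFunctor X x).obj (FlatMod.freeMod X n))) = n ∧
    FiniteDimensional K ((ModuleCat.extendScalars φ).obj
      ((DerSch.stalkFunctor X x).obj (FlatMod.freeMod X n))) := by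
  letI := φ.toAlgebra
  let b := Algebra.TensorProduct.basis K (eBasis x n)
  exact ⟨(finrank_eq_card_basis b).trans (Fintype.card_fin n),
    Module.Finite.of_basis b⟩

end Groth.Agent.KFlatLib
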